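import Groth.Agent.H10Coh.K3Surf.Hull
import Groth.Agent.H28RR.LazMukEuler
import Groth.Agent.H25Euler.Saturate
import Groth.Agent.H29RR.Invert
import Groth.Agent.H8Props.DivisorSection
import Groth.Agent.H23KS.DualSum

/-!
# Stable sheaves of rank two on a K3 surface of Picard rank one as extensions
-/

set_option autoImplicit false
set_option backward.isDefEq.respectTransparency.types false
set_option linter.style.haveILetI false
set_option linter.unusedSectionVars false
set_option maxHeartbeats 1600000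

universe u

open CategoryTheory CategoryTheory.Limits AlgebraicGeometry Polynomial Opposite
open Groth.Agent StabCat Groth.Agent.H10Coh.Stab Groth.Agent.H02CA.SurfStab

namespace Groth.Agent.H10Coh.K3Surf

/-- The numerical data of a stable sheaf of rank two and first Chern class the polarisation. -/
structure RankTwo (k : Type u) [Field k] {X : Scheme.{u}} [X.Over (Spec (CommRingCat.of k))] (L V : X.Modules)
    (P PO : ℚ[X]) : Prop where
  dim : topologicalKrullDim X = ((2 : ℕ) : WithBot ℕ∞)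
  ample : CohB1.IsAmple L
  stable : ShStab.IsStable k X L V 2
  hilb : ShStab.IsHilbPoly k X L V P
  hilbO : ShStab.IsHilbPoly k X L (Coh.structureModule X) PO
  odd : PO.coeff 1 = 0
  rank : P.coeff 2 = 2 * PO.coeff 2
  chern : P.coeff 1 = P.coeff 2

variable {k : Type u} [Field k] [IsAlgClosed k] {X : Scheme.{u}} [X.Over (Spec (CommRingCat.of k))]
  [IsProper (X ↘ Spec (CommRingCat.of k))] [IsIntegral X] [Smooth (X ↘ Spec (CommRingCat.of k))]
  {L V : X.Modules} {P PO : ℚ[X]} (d : RankTwo k L V P PO)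

include d

theorem RankTwo.invL : PicF.IsInvertible L := d.ample.1

theorem RankTwo.pos : 0 < alpha 2 PO := by
  haveI := isLocallyNoetherian_of_proper (Z := X) k
  have hOi : PicF.IsInvertible (Coh.structureModule X) := H11Proj.isInvertible_structureModule
  refine alpha_pos_of_pure d.ample (isPure_inv (k := k) d.dim hOi) (H11Ample.isCoh_of_isInvertible hOi)
    (fun h => ?_) d.hilbO
  have := H25Euler.mem_support_structure (X := X) (genericPoint X)
  rw [H10Coh.Stab.support_eq_empty_of_isZero h] at this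
  exact this

theorem RankTwo.alphaV : alpha 2 P = 2 * alpha 2 PO ∧ alpha 1 P = alpha 2 PO := by
  simp only [alpha, Nat.factorial]
  push_cast
  exact ⟨by rw [d.rank], by rw [d.chern, d.rank]; ring_nf⟩

theorem RankTwo.alpha_one_structure : alpha 1 PO = 0 := by
  simp only [alpha, d.odd, mul_zero]

/-- A submodule of rank one has slope at most half that of the polarisation. -/
theorem RankTwo.slope_le {F : X.Modules} (hF : Coh.IsCoh F) (i : F ⟶ V) [Mono i] (hF0 : ¬ IsZero F) {pF : ℚ[X]}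
    (hpF : ShStab.IsHilbPoly k X L F pF) (h2 : alpha 2 pF = alpha 2 PO) :
    2 * alpha 1 pF ≤ alpha 2 PO := by
  obtain ⟨hV2, hV1⟩ := d.alphaV
  have hi : ¬ IsIso i := fun h => by
    have := H25Euler.hilbPoly_unique d.hilb fun m =>
      (congrArg (fun z : ℤ => (z : ℚ)) (H25Euler.euler_congr (PicGrp.tensorModIso (asIso i) (Iso.refl _)).symm)).trans
        (hpF m)
    rw [this, h2] at hV2
    linarith [d.pos]
  have h := d.stable.2.2.2 F i inferInstance hF hF0 hi pF P hpF d.hilb
  have hle : RedLE 2 pF P := redLE_iff.2 (redLT_iff.1 h).nonneg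
  have hs := hatSlope_le_of_redLE (d := 2) one_le_two
    (fun n hn => coeff_above d.ample (isPure_of_mono d.stable.2.2.1 i) hF hpF n hn)
    (fun n hn => coeff_above d.ample d.stable.2.2.1 d.stable.1 d.hilb n hn)
    (by rw [h2]; exact d.pos) (by rw [hV2]; linarith [d.pos]) hle
  rw [hatSlope, hatSlope, h2, hV2, hV1, div_le_div_iff₀ d.pos (by linarith [d.pos])] at hs
  nlinarith [d.pos]

/-- A stable sheaf of positive slope has no maps to a line bundle of nonpositive degree. -/
theorem RankTwo.hom_eq_zero {A : X.Modules} (hA : PicF.IsInvertible A) {a : ℤ} (ha0 : a ≤ 0)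
    (ha : letI := H28Vert.picLaw X; PicGrp.cls A hA = PicGrp.cls L d.invL ^ a) (φ : V ⟶ A) : φ = 0 := by
  by_contra hφ
  haveI := isLocallyNoetherian_of_proper (Z := X) k
  have hAc := H11Ample.isCoh_of_isInvertible hA
  have hV := d.stable.1
  have hVp := d.stable.2.2.1
  obtain ⟨pA, hpA⟩ := exists_poly (k := k) d.ample d.dim hAc
  obtain ⟨hA2, hA1⟩ := alpha_of_cls d.dim d.invL d.ample d.hilbO hA ha hpA
  rw [d.alpha_one_structure, zero_add] at hA1
  obtain ⟨pK, hKc, hIc, hpK, hpI⟩ := exists_image_data d.ample hV hAc φ d.hilb (dim_lt_succ_of_pure hVp hV)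
  have hI2 : alpha 2 (P - pK) = alpha 2 pA :=
    alpha_eq_of_mono_inv d.ample d.dim hIc (not_isZero_image hφ) hA (Abelian.image.ι φ) hpI hpA
  have hI1 := alpha_pred_le_of_eq d.ample one_le_two (isPure_inv (k := k) d.dim hA) hAc hIc (Abelian.image.ι φ)
    hpI hpA hI2
  obtain ⟨hV2, hV1⟩ := d.alphaV
  rw [alpha_sub, hV2, hA2] at hI2
  rw [alpha_sub] at hI1
  norm_num at hI1
  rw [hV1, hA1] at hI1
  have hK2 : alpha 2 pK = alpha 2 PO := by linarith
  have hK0 : ¬ IsZero (kernel φ) := fun h => by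
    rw [H25Euler.hilbPoly_unique hpK (H25Euler.hilbPoly_zero h), alpha_zero] at hK2
    exact d.pos.ne hK2
  have h := d.slope_le hKc (kernel.ι φ) hK0 hpK hK2
  have : (a : ℚ) ≤ 0 := by exact_mod_cast ha0
  nlinarith [d.pos, mul_nonpos_of_nonpos_of_nonneg this d.pos.le]

/-- A nonzero map from a line bundle gives, after saturation, an extension of twisted ideal sheaves. -/
theorem RankTwo.exists_extension
    (hgen : letI := H28Vert.picLaw X; ∀ c : PicLoc.PicSet X, ∃ n : ℤ, c = PicGrp.cls L d.invL ^ n)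
    {A : X.Modules} (hA : PicF.IsInvertible A) {a : ℤ}
    (ha : letI := H28Vert.picLaw X; PicGrp.cls A hA = PicGrp.cls L d.invL ^ a) (s : A ⟶ V) (hs : s ≠ 0) :
    letI := H28Vert.picLaw X
    ∃ (c : ℤ) (W : X.Modules) (ι' : W ⟶ V) (φ : A ⟶ W) (M : X.Modules) (hM : PicF.IsInvertible M) (χ : W ⟶ M)
      (M' : X.Modules) (hM' : PicF.IsInvertible M') (ψ : cokernel ι' ⟶ M'),
      a ≤ c ∧ c ≤ 0 ∧ PicGrp.cls M hM = PicGrp.cls L d.invL ^ c ∧
      PicGrp.cls M' hM' = PicGrp.cls L d.invL ^ (1 - c) ∧ Mono s ∧ φ ≫ ι' = s ∧ Mono ι' ∧ Mono χ ∧ Mono ψ ∧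
      Coh.IsCoh W ∧ Coh.IsCoh (cokernel ι') ∧ ShStab.IsPure X (cokernel ι') 2 ∧
      topologicalKrullDim (CohB1.support (cokernel χ)) < ((1 : ℕ) : WithBot ℕ∞) ∧
      topologicalKrullDim (CohB1.support (cokernel ψ)) < ((1 : ℕ) : WithBot ℕ∞) := by
  letI := H28Vert.picLaw X
  haveI := isLocallyNoetherian_of_proper (Z := X) k
  have hreg : ∀ x : X, IsRegularLocalRing (X.presheaf.stalk x) := fun x =>
    H19Grp.isRegularLocalRing_stalk_of_smooth (X ↘ Spec (CommRingCat.of k)) x
  have hV := d.stable.1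
  have hVp := d.stable.2.2.1
  have hAc := H11Ample.isCoh_of_isInvertible hA
  have hAp := isPure_inv (k := k) d.dim hA
  obtain ⟨pA, hpA⟩ := exists_poly (k := k) d.ample d.dim hAc
  obtain ⟨hA2, hA1⟩ := alpha_of_cls d.dim d.invL d.ample d.hilbO hA ha hpA
  rw [d.alpha_one_structure, zero_add] at hA1
  haveI hsm : Mono s := by
    obtain ⟨pK, hKc, hIc, hpK, hpI⟩ := exists_image_data d.ample hAc hV s hpA (dim_lt_succ_of_pure hAp hAc)
    refine Preadditive.mono_of_isZero_kernel _ (by_contra fun hK0 => ?_)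
    have hK2 := alpha_eq_of_mono_inv d.ample d.dim hKc hK0 hA (kernel.ι s) hpK hpA
    have hI2 := alpha_pos_of_pure d.ample (isPure_of_mono hVp (Abelian.image.ι s)) hIc (not_isZero_image hs) hpI
    rw [alpha_sub, hK2] at hI2
    linarith
  obtain ⟨W, ι', φ, hι', hφ, hW, hdW, hQp⟩ := H25Euler.exists_saturation k d.ample hV hAc s hVp d.stable.2.1
  haveI := hι'
  haveI hφm : Mono φ := mono_of_mono_fac hφ
  obtain ⟨pW, hpW⟩ := exists_poly (k := k) d.ample d.dim hW
  have hWA : pA.coeff 2 = pW.coeff 2 := coeff_eq_of_dim d.ample hAc hW φ hpA hpW hdW le_rfl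
  have hW2 : alpha 2 pW = alpha 2 PO := by rw [← hA2]; simp only [alpha, hWA]
  have hPO2 : PO.coeff 2 ≠ 0 := fun h => by
    have := d.pos
    simp [alpha, h] at this
  have hrk : ∀ {F : X.Modules} {p : ℚ[X]}, Coh.IsCoh F → ShStab.IsHilbPoly k X L F p →
      p.coeff 2 = PO.coeff 2 → H25Euler.genRank F = 1 := fun {F} {p} hF hp hc => by
    have h := H25Euler.coeff_hilbPoly_eq_genRank_mul k d.ample d.dim d.hilbO hF hp
    rw [hc] at h
    exact_mod_cast (mul_eq_right₀ hPO2).1 h.symm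
  have hW2' : pW.coeff 2 = PO.coeff 2 := by
    simpa [alpha] using hW2
  have hWp := isPure_of_mono hVp ι'
  obtain ⟨M, χ, hM, hχ, hdχ⟩ := exists_hull (k := k) d.dim hreg hW hWp (hrk hW hpW hW2')
  haveI := hχ
  obtain ⟨c, hc⟩ := hgen (PicGrp.cls M hM)
  have hMc := H11Ample.isCoh_of_isInvertible hM
  obtain ⟨pM, hpM⟩ := exists_poly (k := k) d.ample d.dim hMc
  obtain ⟨hM2, hM1⟩ := alpha_of_cls d.dim d.invL d.ample d.hilbO hM hc hpM
  rw [d.alpha_one_structure, zero_add] at hM1
  have hW1 : alpha 1 pW = c * alpha 2 PO := by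
    rw [← hM1]
    simp only [alpha, coeff_eq_of_dim d.ample hW hMc χ hpW hpM hdχ le_rfl]
  have hac : a ≤ c := by
    have h := alpha_pred_le_of_eq d.ample one_le_two (isPure_inv (k := k) d.dim hM) hMc hAc (φ ≫ χ) hpA hpM
      (hA2.trans hM2.symm)
    norm_num at h
    rw [hA1, hM1] at h
    exact_mod_cast le_of_mul_le_mul_right h d.pos
  have hW0 : ¬ IsZero W := fun h => by
    rw [H25Euler.hilbPoly_unique hpW (H25Euler.hilbPoly_zero h), alpha_zero] at hW2
    exact d.pos.ne hW2
  have hc0 : c ≤ 0 := by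
    have h := d.slope_le hW ι' hW0 hpW hW2
    rw [hW1] at h
    have : (2 * c : ℚ) ≤ 1 := le_of_mul_le_mul_right (by linarith) d.pos
    have : 2 * c ≤ 1 := by exact_mod_cast this
    omega
  have hQ := H10Coh.isCoh_cokernel ι' hW.1 hV
  have hpQ := (H25Euler.polyLE_of_mono d.ample hW hV ι' hpW d.hilb).2
  obtain ⟨M', ψ, hM', hψ, hdψ⟩ := exists_hull (k := k) d.dim hreg hQ hQp
    (hrk hQ hpQ (by rw [coeff_sub, hW2', d.rank]; ring))
  haveI := hψ
  obtain ⟨b, hb⟩ := hgen (PicGrp.cls M' hM')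
  have hMc' := H11Ample.isCoh_of_isInvertible hM'
  obtain ⟨pM', hpM'⟩ := exists_poly (k := k) d.ample d.dim hMc'
  obtain ⟨-, hM1'⟩ := alpha_of_cls d.dim d.invL d.ample d.hilbO hM' hb hpM'
  rw [d.alpha_one_structure, zero_add] at hM1'
  have hQ1 : alpha 1 pM' = alpha 1 (P - pW) := by
    simp only [alpha, coeff_eq_of_dim d.ample hQ hMc' ψ hpQ hpM' hdψ le_rfl]
  rw [hM1', alpha_sub, d.alphaV.2, hW1] at hQ1
  have hb' : b = 1 - c := by
    have : (b : ℚ) = 1 - c := mul_right_cancel₀ d.pos.ne' (by rw [hQ1]; ring)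
    exact_mod_cast this
  subst hb'
  exact ⟨c, W, ι', φ, M, hM, χ, M', hM', ψ, hac, hc0, hc, hb, hsm, hφ, hι', hχ, hψ, hW, hQ, hQp, hdχ, hdψ⟩

omit d

/-- The middle coefficient of the Hilbert polynomial of the structure sheaf of a K3 surface vanishes. -/
theorem coeff_one_structure (hX : topologicalKrullDim X = ((2 : ℕ) : WithBot ℕ∞))
    (hK : ExtPow.IsExtPow 2 (Omega.sheaf (X ↘ Spec (CommRingCat.of k))) (Coh.structureModule X))
    (hL : CohB1.IsAmple L) (hPO : ShStab.IsHilbPoly k X L (Coh.structureModule X) PO) : PO.coeff 1 = 0 := by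
  haveI := isLocallyNoetherian_of_proper (Z := X) k
  have hOi : PicF.IsInvertible (Coh.structureModule X) := H11Proj.isInvertible_structureModule
  obtain ⟨N, hN, ⟨e⟩⟩ := H29RR.exists_inverse_comm hL.1
  obtain ⟨eD⟩ := H23KS.nonempty_dual_iso hL.1 e
  have hsym : Curv2.euler k X N = Curv2.euler k X L :=
    (H25Euler.euler_congr eD.symm).trans
      (H28RR.LazMuk.euler_dual k (by exact_mod_cast hX) hL hK (H28Pinch.isFinLocFree_of_isInvertible hL.1))
  obtain ⟨pN, hpN⟩ := exists_poly (k := k) hL hX (H11Ample.isCoh_of_isInvertible hN)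
  have hshift : PO = pN.comp (Polynomial.X + Polynomial.C ((1 : ℕ) : ℚ)) :=
    H25Euler.hilbPoly_unique hPO (hilbPoly_shift (k := k) hL.1 1
      (e.symm ≪≫ H10Coh.Tw.commIso L N ≪≫
        PicGrp.tensorModIso (Iso.refl N) (H11Ample.tensorLeftUnitIso L).symm) hpN)
  have hm1 : PO.eval (-1 : ℚ) = (Curv2.euler k X N : ℚ) := by
    rw [hshift, eval_comp]
    have h0 := hpN 0
    rw [Nat.cast_zero] at h0
    rw [show ((Polynomial.X + Polynomial.C ((1 : ℕ) : ℚ) : ℚ[X]).eval (-1 : ℚ)) = 0 by simp, ← h0]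
    exact congrArg (fun z : ℤ => (z : ℚ)) (H25Euler.euler_congr (H10Coh.Tw.rightUnitIso N))
  have hp1 : PO.eval (1 : ℚ) = (Curv2.euler k X L : ℚ) := by
    have h1 := hPO 1
    rw [Nat.cast_one] at h1
    rw [← h1]
    exact congrArg (fun z : ℤ => (z : ℚ)) (H25Euler.euler_congr
      (H11Ample.tensorLeftUnitIso (CohB1.tensorPow L 1) ≪≫ H11Ample.tensorLeftUnitIso L))
  have hd : PO.natDegree ≤ 2 := natDegree_le_iff_coeff_eq_zero.2 fun j hj =>
    coeff_above hL (isPure_inv (k := k) hX hOi) (H11Ample.isCoh_of_isInvertible hOi) hPO j hj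
  rw [hsym, ← hp1, eval_eq_sum_range' (show PO.natDegree < 3 by omega),
    eval_eq_sum_range' (show PO.natDegree < 3 by omega)] at hm1
  simp [Finset.sum_range_succ] at hm1
  linarith

/-- A coherent sheaf of positive Euler characteristic without maps to the structure sheaf has a section. -/
theorem nontrivial_h0 (hX : topologicalKrullDim X = ((2 : ℕ) : WithBot ℕ∞))
    (hK : ExtPow.IsExtPow 2 (Omega.sheaf (X ↘ Spec (CommRingCat.of k))) (Coh.structureModule X))
    {n : ℕ} (ι : X ⟶ CohB1.ProjSpace n k) [IsClosedImmersion ι]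
    (hι : ι ≫ CohB1.ProjSpace.toSpec n k = X ↘ Spec (CommRingCat.of k))
    {E : X.Modules} (hE : Coh.IsCoh E) (hhom : ∀ φ : E ⟶ Coh.structureModule X, φ = 0)
    (hpos : 1 ≤ Curv2.euler k X E) : Nontrivial (Coh.HH X E 0) := by
  haveI : IsGrothendieckAbelian.{u} X.Modules := H10Coh.isGrothendieckAbelian_sheafOfModules _
  haveI : EnoughInjectives X.Modules := inferInstance
  haveI : HasExt.{u} X.Modules := inferInstance
  haveI := H27CurveDiv.smoothOfRelativeDimension_of_dim (X ↘ Spec (CommRingCat.of k)) 2 (by exact_mod_cast hX)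
  obtain ⟨e⟩ := H17.FLI.nonempty_ext_linearEquiv_dual ι hι hK hE (i := 0) (by norm_num)
  rw [Nat.sub_zero] at e
  haveI : Subsingleton (E ⟶ Coh.structureModule X) := ⟨fun f g => (hhom f).trans (hhom g).symm⟩
  haveI : Subsingleton (Abelian.Ext.{u} E (Coh.structureModule X) 0) := Abelian.Ext.homEquiv₀.subsingleton
  have h2 : Module.finrank k (Coh.HH X E 2) = 0 := by
    haveI := H10Coh.finite_HH_proper k X E hE 2
    rw [← Subspace.dual_finrank_eq, ← e.finrank_eq]
    exact Module.finrank_zero_of_subsingleton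
  rw [H28RR.euler_eq_three k (by exact_mod_cast hX) hE, h2] at hpos
  exact Module.nontrivial_of_finrank_pos (R := k) (by omega)

end Groth.Agent.H10Coh.K3Surf
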