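import Groth.Agent.H10Coh.K3Surf.Hull
import Groth.Agent.H10Coh.AlgebraizeSupp
import Groth.Agent.H17.QCohLoc

/-!
# Maps out of sheaves differing in a finite set of points
-/

set_option autoImplicit false
set_option backward.isDefEq.respectTransparency.types false
set_option linter.style.haveILetI false
set_option linter.unusedSectionVars false
set_option maxHeartbeats 800000

universe u

open CategoryTheory CategoryTheory.Limits AlgebraicGeometry Opposite
open Groth.Agent Groth.Agent.H10Coh.Stab Groth.Agent.H02CA.SurfStab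

namespace Groth.Agent.H10Coh.K3Surf

variable {k : Type u} [Field k] {X : Scheme.{u}} [X.Over (Spec (CommRingCat.of k))]
  [IsProper (X ↘ Spec (CommRingCat.of k))] [IsIntegral X]

include k in
/-- A map to a pure sheaf is determined outside finitely many points. -/
theorem eq_zero_of_small {W M Q : X.Modules} (hW : Coh.IsCoh W) (hM : Coh.IsCoh M) (hQ : Coh.IsCoh Q)
    (hQp : ShStab.IsPure X Q 2) (χ : W ⟶ M)
    (hd : topologicalKrullDim (CohB1.support (cokernel χ)) < ((1 : ℕ) : WithBot ℕ∞))
    (g : M ⟶ Q) (hg : χ ≫ g = 0) : g = 0 := by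
  haveI := isLocallyNoetherian_of_proper (Z := X) k
  have hC := H10Coh.isCoh_cokernel χ hW.1 hM
  let h := cokernel.desc χ g hg
  have hI : Coh.IsCoh (cokernel (kernel.ι h)) :=
    H10Coh.isCoh_cokernel _ (H10Coh.isCoh_kernel h hC hQ.1).1 hC
  let j : cokernel (kernel.ι h) ⟶ Q := cokernel.desc (kernel.ι h) h (kernel.condition _)
  haveI : Mono j := inferInstanceAs (Mono (Abelian.factorThruCoimage h))
  suffices hz : IsZero (cokernel (kernel.ι h)) by
    rw [← cokernel.π_desc χ g hg]
    show cokernel.π χ ≫ h = 0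
    rw [← cokernel.π_desc (kernel.ι h) h (kernel.condition _), hz.eq_of_tgt (cokernel.π _) 0, zero_comp, comp_zero]
  by_contra h0
  have h2 := hQp _ j inferInstance hI h0
  have h1 := H25Euler.dim_lt_of_subset (H10Coh.AlgSupp.support_subset_of_epi (cokernel.π (kernel.ι h)) hC hI) hd
  rw [h2] at h1
  exact absurd h1 (by norm_cast)

include k in
/-- A map to a reflexive sheaf extends over finitely many points. -/
theorem exists_extension (hX : topologicalKrullDim X = ((2 : ℕ) : WithBot ℕ∞))
    (hreg : ∀ x : X, IsRegularLocalRing (X.presheaf.stalk x)) {W M V : X.Modules} (hW : Coh.IsCoh W)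
    (hM : Coh.IsCoh M) (hV : Coh.IsCoh V) (hVr : RefHull.IsReflexive V) (χ : W ⟶ M) [Mono χ]
    (hd : topologicalKrullDim (CohB1.support (cokernel χ)) < ((1 : ℕ) : WithBot ℕ∞)) (f : W ⟶ V) :
    ∃ g : M ⟶ V, χ ≫ g = f := by
  haveI := isLocallyNoetherian_of_proper (Z := X) k
  have hC := H10Coh.isCoh_cokernel χ hW.1 hM
  let U : X.Opens := ⟨(CohB1.support (cokernel χ))ᶜ, (H10Coh.isClosed_support _ hC.2).isOpen_compl⟩
  have hU : ∀ x : X, x ∉ U → (2 : WithBot ℕ∞) ≤ ringKrullDim (X.presheaf.stalk x) := fun x hx =>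
    two_le_dim_stalk (k := k) hX (H10Coh.isClosed_support _ hC.2) (d := 0)
      (by exact_mod_cast le_zero_of_lt_one hd) (by omega) (not_not.1 hx)
  let R := Scheme.Modules.restrictFunctor U.ι
  haveI : IsIso (R.map χ) := (H17.QCohLoc.isIso_restrict_iff U χ).2
    ⟨fun x hx => ((H25Euler.notMem_support_iff _ x).2
      ((DerSch.stalkFunctor X x).map_isZero (isZero_kernel_of_mono χ)) hx).elim, fun x hx => fun h => h hx⟩
  let adj := Scheme.Modules.restrictAdjunction U.ι
  have hnor := H29Ref.isNormalScheme_of_regular hreg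
  haveI : IsIso (adj.unit.app V) := (H29Ref.isIso_unit_iff V U).2 fun W =>
    H29Ref.bijective_res hnor V hV hVr (U.ι.image_preimage_le W) fun x hxW hx =>
      hU x fun hxU => hx ⟨⟨x, hxU⟩, hxW, rfl⟩
  refine ⟨adj.homEquiv _ _ (inv (R.map χ) ≫ R.map f) ≫ inv (adj.unit.app V), ?_⟩
  rw [← Category.assoc, ← adj.homEquiv_naturality_left, ← Category.assoc, IsIso.hom_inv_id, Category.id_comp,
    IsIso.comp_inv_eq]
  exact (adj.homEquiv_unit _ _ _).trans (adj.unit_naturality f)

end Groth.Agent.H10Coh.K3Surf
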