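import Groth.Agent.H28RR.AmpleStep
import Groth.Agent.H28RR.LazMukH1

/-!
# First cohomology of line bundles on a K3 surface of Picard rank one
-/

set_option autoImplicit false
set_option backward.isDefEq.respectTransparency.types false
set_option linter.style.haveILetI false
set_option linter.unusedSectionVars false
set_option maxHeartbeats 1600000

universe u

open CategoryTheory CategoryTheory.Limits AlgebraicGeometry TopologicalSpace
open Groth.Agent Groth.Agent.H28RR Groth.Agent.H28RR.PicNum Groth.Agent.H28RR.ZariskiVol Groth.Agent.H28RR.NefBigVan Groth.Agent.H28RR.AmpleStep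
open Groth.Agent.H28Surf hiding dot dot_mul_left dot_mul_right dot_pow_left

noncomputable section

namespace Groth.Agent.H10Coh.K3Surf

attribute [local instance] H28Vert.picLaw
attribute [local instance 10000] H10Coh.hasSheafifyAb H10Coh.hasWeakSheafifyAb H10Coh.hasExtAb H10Coh.enoughInjAb

theorem hhlin_g_injective {k : Type u} [Field k] {X : Scheme.{u}} [X.Over (Spec (CommRingCat.of k))]
    {S : ShortComplex X.Modules} (hS : S.ShortExact) (n : ℕ) (h : Subsingleton (Coh.HH X S.X₁ n)) :
    Function.Injective (Canon.HHlin k S.g n) := by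
  refine (injective_iff_map_eq_zero _).2 fun x hx => ?_
  obtain ⟨y, rfl⟩ := Abelian.Ext.covariant_sequence_exact₂ _ (H10Coh.shortExact_sh hS) x hx
  exact (congrArg (fun z => Canon.HHlin k S.f n z) (h.elim y 0)).trans (map_zero _)

variable {X : Scheme.{u}} (k : Type u) [Field k] [IsAlgClosed k] [X.Over (Spec (CommRingCat.of k))]
  [IsProper (X ↘ Spec (CommRingCat.of k))] [Smooth (X ↘ Spec (CommRingCat.of k))] [IsIntegral X]
  (hdim : topologicalKrullDim X = 2)
  (hK : ExtPow.IsExtPow 2 (Omega.sheaf (X ↘ Spec (CommRingCat.of k))) (Coh.structureModule X))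
  (hq : Module.finrank k (Coh.HH X (Coh.structureModule X) 1) = 0)
  {g : PicLoc.PicSet X} (hg : CohB1.IsAmple (rep g)) (hgen : ∀ c : PicLoc.PicSet X, ∃ n : ℤ, c = g ^ n)

include hdim hK hq hg hgen

/-- The line bundles of a K3 surface of Picard rank one have no first cohomology. -/
theorem hc_one_eq_zero (c : PicLoc.PicSet X) : hc k 1 c = 0 := by
  haveI := H28Int.isNoetherian k (X := X)
  have hw : PicGrp.cls (Coh.structureModule X) (isInvertible_canonical k hdim hK) = 1 :=
    PicGrp.cls_structureModule_eq_one
  have hdual : ∀ c : PicLoc.PicSet X, hc k 1 c⁻¹ = hc k 1 c := fun c => by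
    have h := h1_dual k hdim hK c
    rwa [hw, one_mul] at h
  have hzp : ∀ (a c : PicLoc.PicSet X) (n : ℤ), dot k (a ^ n) c = n * dot k a c := fun a c n => by
    obtain ⟨m, rfl | rfl⟩ := Int.eq_nat_or_neg n
    · rw [zpow_natCast, dot_pow_left k hdim]
    · rw [zpow_neg, zpow_natCast, dot_inv_left k hdim, dot_pow_left k hdim, neg_mul]
  have hgg : 0 < dot k g g := by
    obtain ⟨C, hC, hA⟩ := exists_ample_curve (X := X) k hdim
    obtain ⟨d, hd⟩ := hgen (curveCls k hdim hC)
    have h := ample_deg_pos k hdim hA hC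
    rw [degOn_eq_dot k hdim hC, hd, hzp, dot_comm k g, hzp] at h
    nlinarith [sq_nonneg d]
  have hneg : hc k 0 g⁻¹ = 0 := by
    haveI := subsingleton_h0_of_neg k hdim hg (rep_inv g⁻¹) (show dot k g⁻¹ g < 0 by
      rw [dot_inv_left k hdim]; omega)
    exact Module.finrank_zero_of_subsingleton
  have hsec : 0 < hc k 0 g := by
    have hr := chi_rr k hdim hK g
    have h3 := chi_eq_three k hdim g
    have h2 := h2_eq k hdim hK g
    rw [hw] at hr h2
    rw [one_mul, hneg] at h2
    rw [dot_comm k g 1, dot_one_left k hdim] at hr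
    have hO : Curv2.euler k X (Coh.structureModule X) = 2 := by
      obtain ⟨H, hH⟩ := exists_ample (X := X) k hdim
      exact LazMuk.euler_structure k hdim hH hK hq
    omega
  obtain ⟨S, hS, hprod⟩ := exists_curves k hdim hsec
  rcases Multiset.empty_or_exists_mem S with rfl | ⟨C, hCS⟩
  · rw [Multiset.map_zero, Multiset.prod_zero] at hprod
    rw [← hprod, dot_one_left k hdim] at hgg
    omega
  obtain ⟨T, rfl⟩ := Multiset.exists_cons_of_mem hCS
  have hC := hS C hCS
  obtain ⟨d, hd⟩ := hgen (curveCls k hdim hC)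
  have hCg : curveCls k hdim hC = g := by
    rw [Multiset.map_cons, Multiset.prod_cons, clsOf_eq k hdim hC, hd] at hprod
    have hT : 0 ≤ dot k (T.map (clsOf k hdim)).prod g := by
      rcases eq_or_ne T 0 with rfl | hne
      · rw [Multiset.map_zero, Multiset.prod_zero, dot_one_left k hdim]
      · exact (dot_ample_pos k hdim hg (fun D hD => hS D (Multiset.mem_cons_of_mem hD)) hne).le
    have h : d * dot k g g + dot k (T.map (clsOf k hdim)).prod g = dot k g g := by
      rw [← hzp, ← dot_mul_left k hdim, hprod]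
    have hpos : 0 < d * dot k g g := by
      have := ample_deg_pos k hdim hg hC
      rwa [degOn_eq_dot k hdim hC, hd, dot_comm k g, hzp] at this
    have hd1 : d = 1 := by nlinarith
    rw [hd, hd1, zpow_one]
  have hI := isInvertible_ideal k (isEffCartier_curve k hdim hC)
  have h1 : hc k 1 g⁻¹ = 0 := by
    have hcls : PicGrp.cls (ClSub.idealMod C) hI = g⁻¹ := by rw [← hCg, curveCls, inv_inv]
    rw [← hcls, hc_cls k 1 hI]
    have h0 : Module.finrank k (Coh.HH X (ClSub.idealMod C) 0) = 0 := by
      rw [← hc_cls k 0 hI, hcls]; exact hneg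
    have hS' := LazMuk.idealSeq_shortExact C
    haveI := H10Coh.finite_HH_proper k X _ (H10Coh.isCoh_structureModule' X) 0
    haveI := H10Coh.finite_HH_proper k X (ClSub.quotMod C) (isCoh_quot k C) 0
    haveI := H10Coh.finite_HH_proper k X _ (H11Ample.isCoh_of_isInvertible hI) 0
    haveI : Subsingleton (Coh.HH X (ClSub.idealMod C) 0) := (Module.finrank_zero_iff (R := k)).1 h0
    have hinj : Function.Injective (Canon.HHlin k (ClSub.toSubscheme C) 0) :=
      hhlin_g_injective hS' 0 ((Module.finrank_zero_iff (R := k)).1 h0)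
    have hsurj := (LinearMap.injective_iff_surjective_of_finrank_eq_finrank (by
      rw [H29RR.finrank_h0_structure k X, finrank_quot_zero k hC])).1 hinj
    have hi := LazMuk.hhlin_f_injective_of_surjective (k := k) hS' 0 hsurj
    haveI := H10Coh.finite_HH_proper k X _ (H10Coh.isCoh_structureModule' X) 1
    have := LinearMap.finrank_le_finrank_of_injective hi
    change Module.finrank k (Coh.HH X (ClSub.idealMod C) 1) ≤
      Module.finrank k (Coh.HH X (Coh.structureModule X) 1) at this
    omega
  have hpos : ∀ j : ℕ, hc k 1 (g ^ (j + 1)) = 0 := by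
    intro j
    induction j with
    | zero => rw [pow_one, ← hdual]; exact h1
    | succ j ih =>
      have h := h1_step k hdim hK hC (g ^ (j + 1 + 1)) (by
        rw [hw, dot_one_left k hdim, hCg, dot_pow_left k hdim]
        push_cast
        nlinarith)
      rw [hCg, show g ^ (j + 1 + 1) * g⁻¹ = g ^ (j + 1) by rw [pow_succ _ (j + 1), mul_inv_cancel_right], ih] at h
      omega
  obtain ⟨n, rfl⟩ := hgen c
  obtain ⟨m, rfl | rfl⟩ := Int.eq_nat_or_neg n
  · rcases m with _ | j
    · rw [zpow_natCast, pow_zero, ← PicGrp.cls_structureModule_eq_one, hc_cls k 1]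
      exact hq
    · rw [zpow_natCast]; exact hpos j
  · rw [zpow_neg, hdual, zpow_natCast]
    rcases m with _ | j
    · rw [pow_zero, ← PicGrp.cls_structureModule_eq_one, hc_cls k 1]
      exact hq
    · exact hpos j

end Groth.Agent.H10Coh.K3Surf
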