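import Groth.Agent.H02CA.SurfStab.Main
import Groth.Agent.H10Coh.Stab.MuIso
import Groth.Agent.H29Ref.BigOpen
import Groth.Agent.H25Euler.RankCoeff
import Groth.Agent.H26TF1.Defect

/-!
# Rank one sheaves on smooth projective surfaces and their invertible hulls
-/

set_option autoImplicit false
set_option backward.isDefEq.respectTransparency.types false
set_option linter.style.haveILetI false
set_option linter.unusedSectionVars false
set_option maxHeartbeats 1600000

universe u

open CategoryTheory CategoryTheory.Limits AlgebraicGeometry Polynomial Opposite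
open Groth.Agent StabCat Groth.Agent.H10Coh.Stab Groth.Agent.H02CA.SurfStab

namespace Groth.Agent.H10Coh.K3Surf

variable {k : Type u} [Field k] {X : Scheme.{u}} [X.Over (Spec (CommRingCat.of k))]
  [IsProper (X ↘ Spec (CommRingCat.of k))] [IsIntegral X]

include k in
theorem isClosed_singleton_of_two_le (hX : topologicalKrullDim X = ((2 : ℕ) : WithBot ℕ∞)) {x : X}
    (hx : (2 : WithBot ℕ∞) ≤ ringKrullDim (X.presheaf.stalk x)) : IsClosed ({x} : Set X) := by
  have h := H8Props.FieldDim.localDim_eq_stalk_add_cdim (X ↘ Spec (CommRingCat.of k)) x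
  rw [H8Props.FieldDim.localDim_eq_dim_of_irreducible (X ↘ Spec (CommRingCat.of k)) x, hX] at h
  rw [← closure_eq_iff_isClosed]
  by_contra hne
  obtain ⟨y, hy, hyx⟩ : ∃ y, y ∈ closure ({x} : Set X) ∧ y ≠ x := by
    by_contra hall
    push Not at hall
    exact hne (Set.Subset.antisymm (fun y hy => hall y hy) subset_closure)
  have h1 : (1 : WithBot ℕ∞) ≤ H8Props.FieldDim.cdim x := by
    obtain ⟨sx, hsx⟩ := H8Props.FieldDim.exists_nat_cdim (X ↘ Spec (CommRingCat.of k)) x
    obtain ⟨sy, hsy⟩ := H8Props.FieldDim.exists_nat_cdim (X ↘ Spec (CommRingCat.of k)) y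
    have hlt := H8Props.FieldDim.cdim_lt (X ↘ Spec (CommRingCat.of k)) (specializes_iff_mem_closure.2 hy) hyx.symm
    rw [hsx, hsy] at hlt
    have hlt' : sy < sx := by exact_mod_cast hlt
    rw [hsx]
    exact_mod_cast Nat.one_le_iff_ne_zero.2 (by omega)
  have : ((3 : ℕ) : WithBot ℕ∞) ≤ ((2 : ℕ) : WithBot ℕ∞) := by
    rw [h]; exact_mod_cast (add_le_add hx h1)
  exact absurd this (by norm_cast)

include k in
theorem dim_lt_one_of_two_le (hX : topologicalKrullDim X = ((2 : ℕ) : WithBot ℕ∞)) {C : Set X} (hC : IsClosed C)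
    (h : ∀ x ∈ C, (2 : WithBot ℕ∞) ≤ ringKrullDim (X.presheaf.stalk x)) :
    topologicalKrullDim C < ((1 : ℕ) : WithBot ℕ∞) := by
  haveI : QuasiSober C := hC.isClosedEmbedding_subtypeVal.quasiSober
  refine lt_of_le_of_lt ?_ (show (0 : WithBot ℕ∞) < ((1:ℕ) : WithBot ℕ∞) by exact_mod_cast one_pos)
  refine Order.krullDim_nonpos_iff_forall_isMin.2 fun s t hts => ?_
  obtain ⟨g, hg⟩ := QuasiSober.sober s.isIrreducible s.isClosed
  have hgc : closure ({g} : Set C) = {g} := closure_eq_iff_isClosed.2 (by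
    rw [hC.isClosedEmbedding_subtypeVal.isClosed_iff_image_isClosed, Set.image_singleton]
    exact isClosed_singleton_of_two_le (k := k) hX (h g.1 g.2))
  have hs : (s : Set C) = {g} := hg.def.symm.trans hgc
  obtain ⟨z, hz⟩ := t.isIrreducible.1
  intro w hw
  replace hw : w = g := by
    have h' : w ∈ (s : Set C) := hw
    rwa [hs, Set.mem_singleton_iff] at h'
  have : z = g := by
    have h' : z ∈ (s : Set C) := hts hz
    rwa [hs, Set.mem_singleton_iff] at h'
  rw [hw, ← this]
  exact hz

include k in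
theorem isPure_inv (hX : topologicalKrullDim X = ((2 : ℕ) : WithBot ℕ∞)) {M : X.Modules}
    (hM : PicF.IsInvertible M) : ShStab.IsPure X M 2 :=
  haveI := isLocallyNoetherian_of_proper (Z := X) k
  isPure_of_isReflexive k (isReflexive_of_vb (H28Pinch.isFinLocFree_of_isInvertible hM)
    (H11Ample.isCoh_of_isInvertible hM)) hX

include k in
theorem isTorsionFree_inv {M : X.Modules} (hM : PicF.IsInvertible M) : TorSh.IsTorsionFree M := fun x => by
  haveI := isLocallyNoetherian_of_proper (Z := X) k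
  obtain ⟨b⟩ := stalkFree_one hM x
  haveI := Module.Free.of_basis b
  exact inferInstance

/-- The two top coefficients of an invertible module in the class of a power of the polarisation. -/
theorem alpha_of_cls (hX : topologicalKrullDim X = ((2 : ℕ) : WithBot ℕ∞)) {L : X.Modules}
    (hLi : PicF.IsInvertible L) (hLa : CohB1.IsAmple L) {pO : ℚ[X]}
    (hpO : ShStab.IsHilbPoly k X L (Coh.structureModule X) pO) {M : X.Modules} (hM : PicF.IsInvertible M) {n : ℤ}
    (hn : letI := H28Vert.picLaw X; PicGrp.cls M hM = PicGrp.cls L hLi ^ n) {p : ℚ[X]}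
    (hp : ShStab.IsHilbPoly k X L M p) :
    alpha 2 p = alpha 2 pO ∧ alpha 1 p = alpha 1 pO + n * alpha 2 pO := by
  letI := H28Vert.picLaw X
  haveI := isLocallyNoetherian_of_proper (Z := X) k
  let O := Coh.structureModule X
  have hOi : PicF.IsInvertible O := H11Proj.isInvertible_structureModule
  have habove : ∀ {M : X.Modules} {P : ℚ[X]}, PicF.IsInvertible M → ShStab.IsHilbPoly k X L M P →
      ∀ j, 2 < j → P.coeff j = 0 := fun {M} {P} hM hP j hj =>
    coeff_above hLa (isPure_inv (k := k) hX hM) (H11Ample.isCoh_of_isInvertible hM) hP j hj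
  have hcls : ∀ (A : X.Modules) (hA : PicF.IsInvertible A) (j : ℕ),
      PicGrp.cls _ (H11Ample.isInvertible_tensor hA (H28Vert.isInvertible_tensorPow hLi j)) =
        PicGrp.cls A hA * PicGrp.cls L hLi ^ j := fun A hA j => by
    rw [← H28Vert.cls_tensorPow hLi j]
    exact (Subtype.ext (PicGrp.cls_mul_cls_val hA (H28Vert.isInvertible_tensorPow hLi j))).symm
  obtain ⟨j, rfl | rfl⟩ := Int.eq_nat_or_neg n
  · obtain ⟨e⟩ := (PicGrp.cls_eq_cls_iff hM (H11Ample.isInvertible_tensor hOi (H28Vert.isInvertible_tensorPow hLi j))).1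
      (by rw [hcls O hOi j, (PicGrp.cls_eq_one_iff hOi).2 ⟨Iso.refl _⟩, one_mul, hn, zpow_natCast])
    have hp' := H25Euler.hilbPoly_unique hp (hilbPoly_shift (k := k) hLi j e hpO)
    obtain ⟨c2, c1⟩ := coeff_comp_shift (habove hOi hpO) (j : ℚ)
    rw [hp']
    simp only [alpha, c2, c1, Nat.factorial]
    push_cast
    exact ⟨trivial, by ring⟩
  · obtain ⟨e⟩ := (PicGrp.cls_eq_cls_iff hOi (H11Ample.isInvertible_tensor hM (H28Vert.isInvertible_tensorPow hLi j))).1
      (by rw [hcls M hM j, (PicGrp.cls_eq_one_iff hOi).2 ⟨Iso.refl _⟩, hn, zpow_neg, zpow_natCast, inv_mul_cancel])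
    have hp' := H25Euler.hilbPoly_unique hpO (hilbPoly_shift (k := k) hLi j e hp)
    obtain ⟨c2, c1⟩ := coeff_comp_shift (habove hM hp) (j : ℚ)
    simp only [alpha, hp', c2, c1, Nat.factorial]
    push_cast
    exact ⟨trivial, by ring⟩

include k in
/-- A pure sheaf of rank one is an invertible module twisted by the ideal of finitely many points. -/
theorem exists_hull (hX : topologicalKrullDim X = ((2 : ℕ) : WithBot ℕ∞))
    (hreg : ∀ x : X, IsRegularLocalRing (X.presheaf.stalk x)) {F : X.Modules} (hF : Coh.IsCoh F)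
    (hFp : ShStab.IsPure X F 2) (hr : H25Euler.genRank F = 1) :
    ∃ (M : X.Modules) (χ : F ⟶ M), PicF.IsInvertible M ∧ Mono χ ∧
      topologicalKrullDim (CohB1.support (cokernel χ)) < ((1 : ℕ) : WithBot ℕ∞) := by
  haveI := isLocallyNoetherian_of_proper (Z := X) k
  have hnor := H29Ref.isNormalScheme_of_regular hreg
  let D : X.Opens := ⟨{x | H8Props.FunDescent.StalkFree F 1 x}, isOpen_iff_forall_mem_open.2 fun x hx => by
    obtain ⟨W, hxW, hW⟩ := H8Props.FunDescent.isFreeOfRankNear_of_stalkFree_of_isFP F (H10Coh.isFP_of_isCoh F hF) hx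
    exact ⟨W, fun y hy => H8Props.FunDescent.stalkFree_of_isFreeOfRankNear _ hF.1 ⟨W, hy, hW⟩, W.2, hxW⟩⟩
  have hη : genericPoint X ∈ D := by
    letI : Field (X.presheaf.stalk (genericPoint X)) := H29Ref.isField_generic.toField
    haveI : Module.Finite (X.presheaf.stalk (genericPoint X))
        ((DerSch.stalkFunctor X (genericPoint X)).obj F) := H29Ref.finite_stalk _ hF.2 _
    exact ⟨Module.finBasisOfFinrankEq (X.presheaf.stalk (genericPoint X))
      ((DerSch.stalkFunctor X (genericPoint X)).obj F) hr⟩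
  obtain ⟨hM, hMbij⟩ := H29Ref.isInvertible_ddual F hF D (D.2.dense ⟨genericPoint X, hη⟩) (fun x hx => hx)
    fun x _ => by
      haveI := hreg x
      exact H28Alg.ufd_of_regular _
  let χ := RefHull.bidualMap F
  have hKc : Coh.IsCoh (kernel χ) := H10Coh.isCoh_kernel χ hF (H11Ample.isCoh_of_isInvertible hM).1
  have hK0 : IsZero (kernel χ) := by
    by_contra h0
    have hdim := hFp (kernel χ) (kernel.ι χ) inferInstance hKc h0
    refine (dim_lt_of_generic_notMem hX (H10Coh.isClosed_support _ hKc.2) ?_).ne hdim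
    exact (H25Euler.notMem_support_iff _ _).2 (by
      let Φ := DerSch.stalkFunctor X (genericPoint X)
      haveI : IsIso (Φ.map χ) := (ConcreteCategory.isIso_iff_bijective _).2 (hMbij _ hη)
      exact IsZero.of_iso (isZero_kernel_of_mono _) (PreservesKernel.iso Φ χ))
  haveI hχ : Mono χ := Preadditive.mono_of_isZero_kernel χ hK0
  have hFtf := H26TF1.isTorsionFree_of_mono' χ (isTorsionFree_inv (k := k) hM)
  have hD2 : ∀ x : X, x ∉ D → (2 : WithBot ℕ∞) ≤ ringKrullDim (X.presheaf.stalk x) := fun x hxD => by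
    by_contra hlt
    push Not at hlt
    refine hxD ?_
    haveI := H29Ref.finite_stalk F hF.2 x
    haveI : Module.IsTorsionFree (X.presheaf.stalk x) (F.presheaf.stalk x) := hFtf x
    haveI := H29Ref.free_of_dim_le_one hnor x (Order.le_of_lt_succ (by exact_mod_cast hlt)) (F.presheaf.stalk x)
    obtain ⟨W, hxW, hW⟩ := H8Props.FunDescent.isFreeOfRankNear_of_stalkFree_of_isFP F (H10Coh.isFP_of_isCoh F hF)
      (p := Module.finrank (X.presheaf.stalk x) (F.presheaf.stalk x)) (x := x) ⟨Module.finBasis _ _⟩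
    have hn := H8Props.FunDescent.stalkFree_unique hη (H8Props.FunDescent.stalkFree_of_isFreeOfRankNear _ hF.1
      (x := genericPoint X) ⟨W, ((genericPoint_spec X).mem_open_set_iff W.2).2 ⟨x, trivial, hxW⟩, hW⟩)
    exact H8Props.FunDescent.stalkFree_of_isFreeOfRankNear _ hF.1 ⟨W, hxW, hn ▸ hW⟩
  refine ⟨_, χ, hM, hχ, H25Euler.dim_lt_of_subset (B := (D : Set X)ᶜ) (fun x hx hxD => ?_)
    (dim_lt_one_of_two_le (k := k) hX D.2.isClosed_compl hD2)⟩
  refine (H25Euler.notMem_support_iff _ x).2 ?_ hx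
  let Φ := DerSch.stalkFunctor X x
  haveI : IsIso (Φ.map χ) := (ConcreteCategory.isIso_iff_bijective _).2 (hMbij x hxD)
  exact IsZero.of_iso (isZero_cokernel_of_epi _) (PreservesCokernel.iso Φ _)

theorem le_zero_of_lt_one {Y : Type u} [TopologicalSpace Y]
    (h : topologicalKrullDim Y < ((1 : ℕ) : WithBot ℕ∞)) : topologicalKrullDim Y ≤ 0 := by
  generalize topologicalKrullDim Y = d at h ⊢
  cases d using WithBot.recBotCoe with
  | bot => exact bot_le
  | coe d =>
    have h' : d < 1 := by exact_mod_cast h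
    rw [ENat.lt_one_iff_eq_zero.1 h']
    exact le_rfl

end Groth.Agent.H10Coh.K3Surf
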