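import Mathlib.Algebra.Homology.DerivedCategory.Ext.EnoughProjectives
import Mathlib.Algebra.Homology.DerivedCategory.Ext.Linear
import Mathlib.Algebra.Homology.DerivedCategory.Ext.ExactSequences
import Mathlib.Algebra.Homology.DerivedCategory.Ext.Map
import Mathlib.Algebra.Category.ModuleCat.Projective
import Mathlib.RingTheory.LocalRing.MaximalIdeal.Basic

/-!
# Extensions by a free module of rank one with projective middle term
-/

set_option autoImplicit false
set_option backward.isDefEq.respectTransparency.types false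
set_option linter.style.haveILetI false

universe w v u

open CategoryTheory CategoryTheory.Limits CategoryTheory.Abelian

namespace Groth.Agent.H10Coh.K3Surf

variable {C : Type u} [Category.{v} C] [Abelian C] [HasExt.{w} C]

/-- An extension class with projective middle term generates. -/
theorem exists_comp_eq {S : ShortComplex C} (hS : S.ShortExact) [Projective S.X₂] {A : C}
    (ξ : Ext S.X₃ A 1) : ∃ u : S.X₁ ⟶ A, hS.extClass.comp (Ext.mk₀ u) (add_zero 1) = ξ := by
  obtain ⟨x, hx⟩ := Ext.contravariant_sequence_exact₃ hS A ξ (Ext.eq_zero_of_projective _) (n₀ := 0) rfl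
  obtain ⟨u, rfl⟩ := (Ext.mk₀_bijective _ _).2 x
  exact ⟨u, hx⟩

/-- An extension with zero class and projective middle term has projective quotient. -/
theorem projective_of_extClass_eq_zero {S : ShortComplex C} (hS : S.ShortExact) [Projective S.X₂]
    (h : hS.extClass = 0) : Projective S.X₃ := by
  obtain ⟨x, hx⟩ := Ext.covariant_sequence_exact₃ S.X₃ hS (Ext.mk₀ (𝟙 S.X₃)) (n₁ := 1) rfl
    (by rw [Ext.mk₀_id_comp, h])
  obtain ⟨σ, rfl⟩ := (Ext.mk₀_bijective _ _).2 x
  rw [Ext.mk₀_comp_mk₀] at hx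
  have hσ : σ ≫ S.g = 𝟙 S.X₃ := (Ext.mk₀_bijective _ _).1 hx
  exact Retract.projective ⟨σ, S.g, hσ⟩

/-- A short exact sequence with nonzero class has no retraction. -/
theorem retraction_ne_id {S : ShortComplex C} (hS : S.ShortExact) (h : hS.extClass ≠ 0) (r : S.X₂ ⟶ S.X₁) :
    S.f ≫ r ≠ 𝟙 S.X₁ := fun hr => h (by
  have h1 := hS.extClass_comp
  have h2 : (hS.extClass.comp (Ext.mk₀ S.f) (add_zero 1)).comp (Ext.mk₀ r) (add_zero 1) = 0 := by
    rw [h1, Ext.zero_comp]
  rwa [Ext.comp_assoc_of_second_deg_zero, Ext.mk₀_comp_mk₀, hr, Ext.comp_mk₀_id] at h2)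

end Groth.Agent.H10Coh.K3Surf

namespace Groth.Agent.H10Coh.K3Surf

variable {R : Type u} [CommRing R] [IsLocalRing R] [HasExt.{w} (ModuleCat.{u} R)]

/-- Two extensions of a non-projective module by a free module of rank one whose classes differ by a scalar in the
maximal ideal cannot both have projective middle term. -/
theorem not_projective_of_smul {S : ShortComplex (ModuleCat.{u} R)} (hS : S.ShortExact)
    (h3 : ¬ Projective S.X₃) (b : Module.Basis (Fin 1) R S.X₁) [Projective S.X₂] {M : ModuleCat.{u} R}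
    (f : S.X₁ ⟶ M) (g : M ⟶ S.X₃) (w : f ≫ g = 0) (hT : (ShortComplex.mk f g w).ShortExact) {t : R}
    (ht : t ∈ IsLocalRing.maximalIdeal R)
    (h : hT.extClass = hS.extClass.comp (Ext.mk₀ (t • 𝟙 S.X₁)) (add_zero 1)) :
    ¬ Projective M := by
  intro hP
  haveI : Projective (ShortComplex.mk f g w).X₂ := hP
  obtain ⟨v, hv⟩ := exists_comp_eq hT (A := S.X₁) hS.extClass
  obtain ⟨r, hr⟩ : ∃ r : R, v = r • 𝟙 S.X₁ := by
    obtain ⟨r, hr⟩ : ∃ r : R, v.hom (b 0) = r • b 0 := ⟨b.repr (v.hom (b 0)) 0, by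
      conv_lhs => rw [← b.sum_repr (v.hom (b 0))]
      rw [Fin.sum_univ_one]⟩
    refine ⟨r, ModuleCat.hom_ext (b.ext fun i => ?_)⟩
    obtain rfl : i = 0 := Subsingleton.elim _ _
    simpa using hr
  rw [h, hr, Ext.comp_assoc_of_second_deg_zero, Ext.mk₀_comp_mk₀] at hv
  have hzero : hS.extClass.comp (Ext.mk₀ ((1 - t * r) • 𝟙 S.X₁)) (add_zero 1) = 0 := by
    rw [sub_smul, one_smul, sub_eq_add_neg, Ext.mk₀_add, Ext.comp_add, Ext.comp_mk₀_id, ← neg_one_smul R,
      Ext.mk₀_smul, Ext.comp_smul, neg_one_smul, ← sub_eq_add_neg, sub_eq_zero]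
    refine hv.symm.trans (congrArg (fun z => hS.extClass.comp (Ext.mk₀ z) (add_zero 1)) ?_)
    rw [Linear.smul_comp, Category.id_comp, smul_smul]
  obtain ⟨u, hu⟩ := IsLocalRing.isUnit_one_sub_self_of_mem_nonunits _
    (show t * r ∈ nonunits R from Ideal.mul_mem_right r _ ht)
  have h0 : hS.extClass = 0 := by
    rw [← hu, Ext.mk₀_smul, Ext.comp_smul, Ext.comp_mk₀_id] at hzero
    have := congrArg ((↑u⁻¹ : R) • ·) hzero
    simpa [smul_smul] using this
  exact h3 (projective_of_extClass_eq_zero hS h0)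

end Groth.Agent.H10Coh.K3Surf
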