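import Groth.Agent.H10Coh.K3Surf.Ext
import Groth.Agent.H10Coh.K3Surf.Extend
import Groth.Agent.H16Derived.MVPush.Support

/-!
# Sections of twists and twisted ideal sheaves
-/

set_option autoImplicit false
set_option backward.isDefEq.respectTransparency.types false
set_option linter.style.haveILetI false
set_option linter.unusedSectionVars false
set_option maxHeartbeats 800000

universe u

open CategoryTheory CategoryTheory.Limits AlgebraicGeometry Polynomial Opposite
open Groth.Agent StabCat Groth.Agent.H10Coh.Stab Groth.Agent.H02CA.SurfStab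

namespace Groth.Agent.H10Coh.K3Surf

/-- An ideal sheaf twist may be read in any invertible module of the same class. -/
theorem exists_twist {X : Scheme.{u}} {Q M T : X.Modules} (hM : PicF.IsInvertible M) (hT : PicF.IsInvertible T)
    (hc : letI := H28Vert.picLaw X; PicGrp.cls M hM = PicGrp.cls T hT) (ψ : Q ⟶ M) [Mono ψ]
    (hd : topologicalKrullDim (CohB1.support (cokernel ψ)) < ((1 : ℕ) : WithBot ℕ∞)) :
    ∃ θ : Q ⟶ T, Mono θ ∧ topologicalKrullDim (CohB1.support (cokernel θ)) ≤ 0 := by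
  letI := H28Vert.picLaw X
  obtain ⟨e⟩ := (PicGrp.cls_eq_cls_iff hM hT).1 hc
  refine ⟨ψ ≫ e.hom, inferInstance, ?_⟩
  rw [H16Derived.MVPush.support_iso (cokernelCompIsIso ψ e.hom)]
  exact le_zero_of_lt_one hd

variable {k : Type u} [Field k] [IsAlgClosed k] {X : Scheme.{u}} [X.Over (Spec (CommRingCat.of k))]
  [IsProper (X ↘ Spec (CommRingCat.of k))] [IsIntegral X] [Smooth (X ↘ Spec (CommRingCat.of k))]
  {L V : X.Modules} {P PO : ℚ[X]} (d : RankTwo k L V P PO)

include d

/-- A positive value of the Hilbert polynomial gives a map from a negative power of the polarisation. -/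
theorem RankTwo.exists_hom
    (hK : ExtPow.IsExtPow 2 (Omega.sheaf (X ↘ Spec (CommRingCat.of k))) (Coh.structureModule X))
    {m : ℕ} (ι : X ⟶ CohB1.ProjSpace m k) [IsClosedImmersion ι]
    (hι : ι ≫ CohB1.ProjSpace.toSpec m k = X ↘ Spec (CommRingCat.of k))
    (n : ℕ) (hn : 1 ≤ P.eval (n : ℚ)) :
    letI := H28Vert.picLaw X
    ∃ (A : X.Modules) (hA : PicF.IsInvertible A) (s : A ⟶ V),
      PicGrp.cls A hA = PicGrp.cls L d.invL ^ (-(n : ℤ)) ∧ s ≠ 0 := by
  letI := H28Vert.picLaw X
  haveI := isLocallyNoetherian_of_proper (Z := X) k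
  have hLn := H28Vert.isInvertible_tensorPow d.invL n
  obtain ⟨A, hA, ⟨e⟩⟩ := H29RR.exists_inverse_comm hLn
  have ha : PicGrp.cls A hA = PicGrp.cls L d.invL ^ (-(n : ℤ)) := by
    have h : PicGrp.cls (CohB1.tensorPow L n) hLn * PicGrp.cls A hA = 1 := by
      rw [← (PicGrp.cls_eq_one_iff (H11Ample.isInvertible_tensor hLn hA)).2 ⟨e⟩]
      exact Subtype.ext (PicGrp.cls_mul_cls_val hLn hA)
    rw [H28Vert.cls_tensorPow d.invL n] at h
    rw [zpow_neg, zpow_natCast]
    exact eq_inv_of_mul_eq_one_right h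
  have hE : Coh.IsCoh (ShStab.twist X L V n) :=
    H11Ample.isCoh_tensor d.stable.1 hLn
  have hhom : ∀ φ : ShStab.twist X L V n ⟶ Coh.structureModule X, φ = 0 := by
    intro φ
    refine H29RR.twist_map_eq_zero hA ?_
    have h0 := d.hom_eq_zero hA (neg_nonpos.2 (Int.natCast_nonneg n)) ha
      ((H29RR.twistInv e).inv.app V ≫ (H29RR.twist A).map φ ≫ (H10Coh.Tw.leftUnitIso A).hom)
    refine (cancel_epi ((H29RR.twistInv e).inv.app V)).1 (Eq.trans ?_ comp_zero.symm)
    refine (cancel_mono (H10Coh.Tw.leftUnitIso A).hom).1 (Eq.trans ?_ zero_comp.symm)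
    exact (Category.assoc _ _ _).trans h0
  have hpos : 1 ≤ Curv2.euler k X (ShStab.twist X L V n) := by
    have := d.hilb n
    rw [← this] at hn
    exact_mod_cast hn
  obtain ⟨s, hs⟩ := H29RR.exists_hom_of_section hA e (nontrivial_h0 d.dim hK ι hι hE hhom hpos)
  exact ⟨A, hA, s, ha, hs⟩

end Groth.Agent.H10Coh.K3Surf
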