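import Groth.Agent.H26TF1.Basic

/-!
# Local rings of closed points over an algebraically closed field
-/

set_option autoImplicit false
set_option backward.isDefEq.respectTransparency.types false
set_option linter.style.haveILetI false

universe u

open CategoryTheory CategoryTheory.Limits AlgebraicGeometry Opposite

namespace Groth.Agent.H10Coh.K3Surf

/-- Modulo the maximal ideal every element of the local ring at a closed point is a constant. -/
theorem exists_scal_sub_mem {k : Type u} [Field k] [IsAlgClosed k] {X : Scheme.{u}}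
    [X.Over (Spec (CommRingCat.of k))] [LocallyOfFiniteType (X ↘ Spec (CommRingCat.of k))] {x : X}
    (hx : IsClosed ({x} : Set X)) (y : X.presheaf.stalk x) :
    ∃ c : k, y - H26TF1.scalStalk (k := k) x c ∈ IsLocalRing.maximalIdeal (X.presheaf.stalk x) := by
  obtain ⟨V, hV, hxV, -⟩ := exists_isAffineOpen_mem_and_subset (U := ⊤) (x := x) trivial
  let f := X ↘ Spec (CommRingCat.of k)
  let A := Γ(X, V)
  let φ : k →+* A := (X.presheaf.map (homOfLE le_top).op).hom.comp (Coh.toGlobal f)
  have hft : φ.FiniteType :=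
    (f.finiteType_appLE (isAffineOpen_top _) hV (le_top : V ≤ f ⁻¹ᵁ ⊤)).comp
      (RingHom.FiniteType.of_surjective (Scheme.ΓSpecIso (CommRingCat.of k)).inv.hom
        (Scheme.ΓSpecIso (CommRingCat.of k)).commRingCatIsoToRingEquiv.symm.surjective)
  letI : Algebra k A := φ.toAlgebra
  haveI : Algebra.FiniteType k A := hft
  let m := (hV.primeIdealOf ⟨x, hxV⟩).asIdeal
  haveI : m.IsMaximal := IsAffineOpen.primeIdealOf_isMaximal_of_isClosed _ ⟨x, hxV⟩ hx
  letI : Field (A ⧸ m) := Ideal.Quotient.field m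
  haveI : Module.Finite k (A ⧸ m) := finite_of_finite_type_of_isJacobsonRing k (A ⧸ m)
  have hbij := IsAlgClosed.algebraMap_bijective_of_isIntegral (k := k) (K := A ⧸ m)
  letI : Algebra A (X.presheaf.stalk x) := TopCat.Presheaf.algebra_section_stalk X.presheaf ⟨x, hxV⟩
  haveI : IsLocalization.AtPrime (X.presheaf.stalk x) m := hV.isLocalization_stalk ⟨x, hxV⟩
  obtain ⟨a, s, rfl⟩ := IsLocalization.exists_mk'_eq m.primeCompl y
  obtain ⟨c1, hc1⟩ := hbij.2 (Ideal.Quotient.mk m a)
  obtain ⟨c2, hc2⟩ := hbij.2 (Ideal.Quotient.mk m (s : A))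
  have hc20 : c2 ≠ 0 := fun h => s.2 (Ideal.Quotient.eq_zero_iff_mem.1 (by rw [← hc2, h, map_zero]))
  refine ⟨c1 / c2, ?_⟩
  have hmem : a - algebraMap k A (c1 / c2) * (s : A) ∈ m := by
    refine Ideal.Quotient.eq_zero_iff_mem.1 ?_
    rw [map_sub, map_mul, Ideal.Quotient.mk_algebraMap, ← hc1, ← hc2, ← map_mul, div_mul_cancel₀ c1 hc20, sub_self]
  have hscal : H26TF1.scalStalk (k := k) x (c1 / c2) =
      algebraMap A (X.presheaf.stalk x) (algebraMap k A (c1 / c2)) :=
    (X.presheaf.germ_res_apply (homOfLE (le_top : V ≤ ⊤)) x hxV _).symm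
  rw [hscal]
  have h1 : IsLocalization.mk' (X.presheaf.stalk x) a s -
      algebraMap A (X.presheaf.stalk x) (algebraMap k A (c1 / c2)) =
      IsLocalization.mk' (X.presheaf.stalk x) (a - algebraMap k A (c1 / c2) * (s : A)) s := by
    rw [eq_comm, IsLocalization.mk'_eq_iff_eq_mul, sub_mul, IsLocalization.mk'_spec, map_sub, map_mul]
  rw [h1]
  exact (IsLocalization.AtPrime.mk'_mem_maximal_iff (X.presheaf.stalk x) m _ s).2 hmem

end Groth.Agent.H10Coh.K3Surf
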